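import Mathlib
import Groth.Prelude.Def_Flat
import Groth.Agent.DimFormulaLib.Field
import Groth.Agent.DimFormulaLib.Equidim
import Groth.Agent.CMFlatLib.Locus
import Groth.Agent.S9739

/-!
# Dimensions of components and fibres of flat morphisms of schemes over a field

The dimension of the closure of a point is the transcendence degree of its residue field, which is
additive in the tower; the generic points above a generic point of a fibre component share its
relative transcendence degree.
-/

set_option autoImplicit false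
set_option linter.style.haveILetI false

universe u

open CategoryTheory CategoryTheory.Limits AlgebraicGeometry Groth.Agent.DimFormulaLib

namespace Groth.Agent.FlatDim

variable {X Y Z : Scheme.{u}}

/-- Transcendence degrees add in a composition. -/
theorem resTrdegAt_comp (f : X ⟶ Y) (g : Y ⟶ Z) (x : X) :
    resTrdegAt (f ≫ g) x = resTrdegAt g (f x) + resTrdegAt f x := by
  letI a₁ : Algebra (Z.residueField (g (f x))) (Y.residueField (f x)) := (g.residueFieldMap (f x)).hom.toAlgebra
  letI a₂ : Algebra (Y.residueField (f x)) (X.residueField x) := (f.residueFieldMap x).hom.toAlgebra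
  letI a₃ : Algebra (Z.residueField (g (f x))) (X.residueField x) := ((f ≫ g).residueFieldMap x).hom.toAlgebra
  haveI : IsScalarTower (Z.residueField (g (f x))) (Y.residueField (f x)) (X.residueField x) :=
    .of_algebraMap_eq fun r => by
      show (f ≫ g).residueFieldMap x r = f.residueFieldMap x (g.residueFieldMap (f x) r)
      exact congrArg (fun φ => φ r) (Scheme.residueFieldMap_comp f g x)
  exact (trdeg_add_eq (Z.residueField (g (f x))) (Y.residueField (f x)) (A := X.residueField x)).symm

/-- A preimmersion is residually trivial. -/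
theorem resTrdegAt_preimmersion (f : X ⟶ Y) [IsPreimmersion f] (x : X) : resTrdegAt f x = 0 := by
  letI : Algebra (Y.residueField (f x)) (X.residueField x) := (f.residueFieldMap x).hom.toAlgebra
  have hs : Function.Surjective (algebraMap (Y.residueField (f x)) (X.residueField x)) := fun z => by
    obtain ⟨s, rfl⟩ := IsLocalRing.residue_surjective z
    obtain ⟨t, ht⟩ := f.stalkMap_surjective x s
    exact ⟨IsLocalRing.residue _ t, (congrArg (fun φ => φ t) (Scheme.residue_residueFieldMap f x)).trans (congrArg (X.residue x) ht)⟩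
  haveI : Algebra.IsAlgebraic (Y.residueField (f x)) (X.residueField x) := ⟨fun z => by
    obtain ⟨a, rfl⟩ := hs z
    exact isAlgebraic_algebraMap a⟩
  exact trdeg_eq_zero

theorem resTrdegAt_congr {f g : X ⟶ Y} (h : f = g) (x : X) : resTrdegAt f x = resTrdegAt g x := by subst h; rfl

theorem resTrdegAt_point (f : X ⟶ Y) {x x' : X} (h : x = x') : resTrdegAt f x = resTrdegAt f x' := by subst h; rfl

/-- The transcendence degree in the fibre. -/
theorem resTrdegAt_fibre (f : X ⟶ Y) (y : Y) (z : f.fiber y) :
    resTrdegAt (f.fiberToSpecResidueField y) z = resTrdegAt f (f.fiberι y z) := by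
  have h := resTrdegAt_congr (f.fiber_fac y) z
  rw [resTrdegAt_comp, resTrdegAt_comp, resTrdegAt_preimmersion (f.fiberι y), resTrdegAt_preimmersion (Y.fromSpecResidueField y), add_zero, zero_add] at h
  exact h.symm

variable (k : Type u) [Field k]

/-- The dimension of the closure of a point. -/
theorem topologicalKrullDim_closure (q : X ⟶ Spec (CommRingCat.of k)) [LocallyOfFiniteType q] (x : X) :
    ∃ t : ℕ, resTrdegAt q x = t ∧ topologicalKrullDim ↥(closure ({x} : Set X)) = t := by
  obtain ⟨a, t, -, ht, -, hh⟩ := field_dims q x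
  exact ⟨t, ht, by rw [topologicalKrullDim_closure_singleton, hh]; rfl⟩

/-- The generic point of a component. -/
theorem exists_generic_of_component {T : Type u} [TopologicalSpace T] [QuasiSober T] {Z : Set T}
    (hZ : Z ∈ irreducibleComponents T) :
    ∃ x : T, closure {x} = Z ∧ ∀ w : T, w ⤳ x → x ⤳ w := by
  obtain ⟨x, hx⟩ := QuasiSober.sober hZ.1 (isClosed_of_mem_irreducibleComponents Z hZ)
  refine ⟨x, hx.def, fun w hw => specializes_iff_mem_closure.2 ?_⟩
  have h2 : closure {x} ⊆ closure {w} := closure_minimal (Set.singleton_subset_iff.2 hw.mem_closure) isClosed_closure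
  rw [hx.def] at h2
  rw [hx.def]
  exact hZ.2 isIrreducible_singleton.closure h2 (subset_closure rfl)

/-- A maximal point generates a component. -/
theorem closure_mem_components {T : Type u} [TopologicalSpace T] [QuasiSober T] (x : T)
    (h : ∀ w : T, w ⤳ x → x ⤳ w) : closure {x} ∈ irreducibleComponents T := by
  refine ⟨isIrreducible_singleton.closure, fun C hC hle => ?_⟩
  obtain ⟨w, hw⟩ := QuasiSober.sober hC.closure isClosed_closure
  have h1 : x ⤳ w := h w (hw.specializes (subset_closure (hle (subset_closure rfl))))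
  exact fun c hc => specializes_iff_mem_closure.1 (h1.trans (hw.specializes (subset_closure hc)))

/-- The image of a maximal point under a flat map is maximal. -/
theorem maximal_map (f : X ⟶ Y) [Flat f] {x : X} (h : ∀ w : X, w ⤳ x → x ⤳ w) :
    ∀ v : Y, v ⤳ f x → f x ⤳ v := fun v hv => by
  obtain ⟨w, hw, rfl⟩ := Flat.generalizingMap f hv
  exact (h w hw).map f.continuous

/-- The relative dimension at a maximal point. -/
theorem fibreDimAt_maximal (f : X ⟶ Y) [LocallyOfFiniteType f] {x : X}
    (h : ∀ w : X, f w = f x → w ⤳ x → x ⤳ w) :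
    ∃ t : ℕ, resTrdegAt f x = t ∧ FlatMor.fibreDimAt f x = t := by
  let z := f.asFiber x
  haveI : LocallyOfFiniteType (f.fiberToSpecResidueField (f x)) := MorphismProperty.pullback_snd _ _ inferInstance
  haveI : LocallyOfFiniteType (Y := Spec (CommRingCat.of (Y.residueField (f x)))) (f.fiberToSpecResidueField (f x)) := ‹_›
  obtain ⟨a, t, ha, ht, hloc, -⟩ := field_dims (k := Y.residueField (f x)) (f.fiberToSpecResidueField (f x)) z
  haveI : IsLocallyNoetherian (f.fiber (f x)) := LocallyOfFiniteType.isLocallyNoetherian (f.fiberToSpecResidueField (f x))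
  have h0 : ringKrullDim ((f.fiber (f x)).presheaf.stalk z) = 0 := by
    rw [ringKrullDim_stalk_eq_coheight, Order.coheight_eq_zero.2 (show IsMax z from fun w hw => by
      have h1 : f.fiberι _ w ⤳ x := ((Scheme.le_iff_specializes.1 hw).map (f.fiberι _).continuous).trans (specializes_of_eq (f.fiberι_asFiber x))
      have h2 := h _ (f.fiberHomeo _ w).2 h1
      exact Scheme.le_iff_specializes.2 ((f.fiberι _).isEmbedding.isInducing.specializes_iff.1
        (by rw [f.fiberι_asFiber x]; exact h2)))]
    rfl
  rw [ha] at h0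
  have ha0 : a = 0 := by exact_mod_cast h0
  refine ⟨t, ?_, ?_⟩
  · rw [← ht, resTrdegAt_fibre, resTrdegAt_point f (f.fiberι_asFiber x)]
  · show FlatMor.localDim _ _ = _
    rw [hloc, ha0, zero_add]

variable {k} (qX : X ⟶ Spec (CommRingCat.of k)) (qY : Y ⟶ Spec (CommRingCat.of k))

/-- Dimensions at a maximal point above a fibre component. -/
theorem component_dims [LocallyOfFiniteType qX] [LocallyOfFiniteType qY] (f : X ⟶ Y) (hf : f ≫ qY = qX) [Flat f]
    (y : Y) (z : f.fiber y) (hz : ∀ w, w ⤳ z → z ⤳ w) (ξ : X) (hξz : ξ ⤳ f.fiberι y z) (hξ : ∀ w : X, w ⤳ ξ → ξ ⤳ w) :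
    ∃ a b c : ℕ, topologicalKrullDim ↥(closure ({z} : Set ↥(f.fiber y))) = a ∧
      topologicalKrullDim ↥(closure ({f ξ} : Set Y)) = b ∧
      topologicalKrullDim ↥(closure ({ξ} : Set X)) = c ∧ c = b + a := by
  haveI : LocallyOfFiniteType (f ≫ qY) := hf ▸ ‹LocallyOfFiniteType qX›
  haveI : LocallyOfFiniteType f := locallyOfFiniteType_of_comp f qY
  haveI : IsLocallyNoetherian Y := LocallyOfFiniteType.isLocallyNoetherian qY
  haveI : LocallyOfFinitePresentation f := inferInstance
  haveI : LocallyOfFiniteType (f.fiberToSpecResidueField y) := MorphismProperty.pullback_snd _ _ inferInstance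
  obtain ⟨a, ha, hca⟩ := topologicalKrullDim_closure (Y.residueField y) (f.fiberToSpecResidueField y) z
  obtain ⟨b, hb, hcb⟩ := topologicalKrullDim_closure k qY (f ξ)
  obtain ⟨c, hc, hcc⟩ := topologicalKrullDim_closure k qX ξ
  refine ⟨a, b, c, hca, hcb, hcc, ?_⟩
  rw [resTrdegAt_fibre] at ha
  have hy : f (f.fiberι y z) = y := (f.fiberHomeo y z).2
  -- the transcendence degree along the generization
  obtain ⟨t, ht, hdt⟩ := fibreDimAt_maximal f (x := ξ) fun w _ hw => hξ w hw
  have hmax : ∀ w : X, f w = f (f.fiberι y z) → w ⤳ f.fiberι y z → f.fiberι y z ⤳ w := fun w hw hwz => by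
    obtain ⟨w', hw'⟩ : ∃ w' : f.fiber y, f.fiberι y w' = w :=
      ⟨(f.fiberHomeo y).symm ⟨w, hw.trans hy⟩, congrArg Subtype.val ((f.fiberHomeo y).apply_symm_apply ⟨w, hw.trans hy⟩)⟩
    subst hw'
    exact (hz w' ((f.fiberι y).isEmbedding.isInducing.specializes_iff.1 hwz)).map (f.fiberι y).continuous
  obtain ⟨t', ht', hdt'⟩ := fibreDimAt_maximal f (x := f.fiberι y z) hmax
  have heq : FlatMor.fibreDimAt f ξ = FlatMor.fibreDimAt f (f.fiberι y z) := by
    refine S9739.result f (f.fiberι y z) ξ hξz ?_
    refine ⟨closure {f.asFiber (f.fiberι y z)}, closure_mem_components _ fun w hw => ?_, rfl⟩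
    have h1 := hw.map (f.fiberι (f (f.fiberι y z))).continuous
    rw [f.fiberι_asFiber] at h1
    have h2 := hmax _ (f.fiberHomeo _ w).2 h1
    refine (f.fiberι _).isEmbedding.isInducing.specializes_iff.1 ?_
    rwa [f.fiberι_asFiber]
  rw [hdt, hdt'] at heq
  have htt : t = t' := by exact_mod_cast heq
  have hat : a = t' := by exact_mod_cast ha.symm.trans ht'
  have h := resTrdegAt_congr hf ξ
  rw [resTrdegAt_comp, hb, ht, hc] at h
  rw [hat, ← htt]
  exact_mod_cast h.symm

/-- Fibre components of dimension `n` give the dimension of the components, and conversely. -/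
theorem equidim_iff [LocallyOfFiniteType qX] [LocallyOfFiniteType qY] (f : X ⟶ Y) (hf : f ≫ qY = qX) [Flat f] (d n : ℕ)
    (hY : ∀ C ∈ irreducibleComponents Y, topologicalKrullDim ↥C = (d : WithBot ℕ∞)) :
    (∀ C ∈ irreducibleComponents X, topologicalKrullDim ↥C = ((d + n : ℕ) : WithBot ℕ∞)) ↔
      ∀ (y : Y), ∀ C ∈ irreducibleComponents (f.fiber y), topologicalKrullDim ↥C = (n : WithBot ℕ∞) := by
  constructor
  · intro h y C hC
    obtain ⟨z, rfl, hz⟩ := exists_generic_of_component hC
    obtain ⟨W, hW, hWz⟩ : ∃ W ∈ irreducibleComponents X, f.fiberι y z ∈ W :=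
      ⟨_, irreducibleComponent_mem_irreducibleComponents _, mem_irreducibleComponent⟩
    obtain ⟨ξ, rfl, hξ⟩ := exists_generic_of_component hW
    obtain ⟨a, b, c, ha, hb, hc, habc⟩ := component_dims qX qY f hf y z hz ξ (specializes_iff_mem_closure.2 hWz) hξ
    have h1 := hc.symm.trans (h _ hW)
    have h2 := hb.symm.trans (hY _ (closure_mem_components _ (maximal_map f hξ)))
    rw [ha]
    have h1' : c = d + n := by exact_mod_cast h1
    have h2' : b = d := by exact_mod_cast h2
    congr 1
    exact_mod_cast (show a = n by omega)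
  · intro h C hC
    obtain ⟨ξ, rfl, hξ⟩ := exists_generic_of_component hC
    let z : f.fiber (f ξ) := f.asFiber ξ
    have hz : ∀ w, w ⤳ z → z ⤳ w := fun w hw => by
      refine (f.fiberι _).isEmbedding.isInducing.specializes_iff.1 ?_
      have h1 := hw.map (f.fiberι _).continuous
      rw [f.fiberι_asFiber] at h1 ⊢
      exact hξ _ h1
    obtain ⟨a, b, c, ha, hb, hc, habc⟩ := component_dims qX qY f hf (f ξ) z hz ξ (by rw [f.fiberι_asFiber]) hξ
    have h1 := ha.symm.trans (h _ _ (closure_mem_components _ hz))
    have h2 := hb.symm.trans (hY _ (closure_mem_components _ (maximal_map f hξ)))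
    rw [hc]
    have h1' : a = n := by exact_mod_cast h1
    have h2' : b = d := by exact_mod_cast h2
    exact_mod_cast (show c = d + n by omega)

end Groth.Agent.FlatDim
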