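import Mathlib
import Groth.Agent.GrSegreLib.Upper
import Groth.Agent.RegLocLib.AffineDim
import Groth.Agent.S9777

/-!
# The fibre dimension of a flat algebra does not drop under generization

Reduce to a valuation ring. There polynomials which are independent on the special fibre stay
independent on the generic one, as one coefficient of a relation may be made a unit.
-/

set_option autoImplicit false
set_option linter.style.haveILetI false

universe u

open TensorProduct MvPolynomial

namespace Groth.Agent.FlatDim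

/-- Algebraically independent elements bound the dimension from below. -/
theorem le_ringKrullDim_of_injective {K C : Type u} [Field K] [CommRing C] [Algebra K C] [Algebra.FiniteType K C]
    {m : ℕ} (f : MvPolynomial (Fin m) K →ₐ[K] C) (hf : Function.Injective f) :
    (m : WithBot ℕ∞) ≤ ringKrullDim C := by
  haveI : Nontrivial C := hf.nontrivial
  obtain ⟨P, hP, hPp, hPc⟩ : ∃ P : Ideal C, P.IsPrime ∧ True ∧ P.comap f.toRingHom = ⊥ := by
    obtain ⟨P, hP, -, hPc⟩ := Ideal.exists_comap_eq_of_mem_minimalPrimes (I := (⊥ : Ideal C))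
      f.toRingHom ⊥ (by
        refine ⟨⟨Ideal.isPrime_bot, fun a ha => ?_⟩, fun q' hq' _ => bot_le⟩
        exact Ideal.mem_bot.2 ((map_eq_zero_iff f hf).1 ha))
    exact ⟨P, hP, trivial, hPc⟩
  haveI := hP
  have hg : Function.Injective ((Ideal.Quotient.mkₐ K P).comp f) := (injective_iff_map_eq_zero _).2 fun a ha => by
    have : a ∈ P.comap f.toRingHom := Ideal.mem_comap.2 ((Ideal.Quotient.eq_zero_iff_mem (I := P)).1 ha)
    rwa [hPc] at this
  obtain ⟨n, hn, hd, -⟩ := RegLocLib.affine_domain_dim K (C ⧸ P)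
  let g : MvPolynomial (Fin m) K →ₐ[K] FractionRing (C ⧸ P) :=
    (IsScalarTower.toAlgHom K (C ⧸ P) (FractionRing (C ⧸ P))).comp ((Ideal.Quotient.mkₐ K P).comp f)
  have hind : AlgebraicIndependent K (fun i => g (X i)) := by
    rw [AlgebraicIndependent, show (MvPolynomial.aeval fun i => g (X i)) = g from MvPolynomial.algHom_ext fun i => by simp]
    exact (IsFractionRing.injective (C ⧸ P) _).comp hg
  have h1 := hind.lift_cardinalMk_le_trdeg
  rw [hn, Cardinal.mk_fin, Cardinal.lift_natCast, Cardinal.lift_natCast] at h1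
  have h2 : m ≤ n := Nat.cast_le.1 h1
  calc (m : WithBot ℕ∞) ≤ n := by exact_mod_cast h2
    _ = ringKrullDim (C ⧸ P) := hd.symm
    _ ≤ ringKrullDim C := ringKrullDim_quotient_le _

/-- Over a valuation ring, a flat algebra has special fibre no bigger than the generic one. -/
theorem ringKrullDim_special_le {V : Type u} [CommRing V] [IsDomain V] [ValuationRing V] (K : Type u) [Field K] [Algebra V K]
    [IsFractionRing V K] (κ : Type u) [Field κ] [Algebra V κ] (hκ : Function.Surjective (algebraMap V κ))
    {C : Type u} [CommRing C] [Algebra V C] [Module.Flat V C] [Algebra.FiniteType V C] :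
    ringKrullDim (κ ⊗[V] C) ≤ ringKrullDim (K ⊗[V] C) := by
  classical
  rcases subsingleton_or_nontrivial (κ ⊗[V] C) with h | h
  · rw [ringKrullDim_eq_bot_of_subsingleton]
    exact bot_le
  obtain ⟨m, f, hf, hfi⟩ := exists_integral_inj_algHom_of_fg κ (κ ⊗[V] C)
  rw [← GrSegreLib.ringKrullDim_eq_of_integral_injective f.toRingHom hf hfi,
    MvPolynomial.ringKrullDim_of_isNoetherianRing, ringKrullDim_eq_zero_of_field, zero_add, Nat.card_eq_fintype_card, Fintype.card_fin]
  have hsurj : Function.Surjective (Algebra.TensorProduct.includeRight : C →ₐ[V] κ ⊗[V] C) := fun z => by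
    induction z using TensorProduct.induction_on with
    | zero => exact ⟨0, map_zero _⟩
    | add a b ha hb =>
      obtain ⟨a, rfl⟩ := ha
      obtain ⟨b, rfl⟩ := hb
      exact ⟨a + b, map_add _ _ _⟩
    | tmul c x =>
      obtain ⟨v, rfl⟩ := hκ c
      refine ⟨v • x, ?_⟩
      rw [Algebra.TensorProduct.includeRight_apply, TensorProduct.tmul_smul, TensorProduct.smul_tmul',
        Algebra.smul_def, mul_one]
  choose c hc using fun i => hsurj (f (X i))
  let φ : MvPolynomial (Fin m) V →ₐ[V] C := MvPolynomial.aeval c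
  let g : MvPolynomial (Fin m) K →ₐ[K] K ⊗[V] C := MvPolynomial.aeval fun i => (1 : K) ⊗ₜ[V] c i
  refine le_ringKrullDim_of_injective g ((injective_iff_map_eq_zero g).2 fun P hP => ?_)
  -- clear the denominators
  obtain ⟨b, hb⟩ := IsLocalization.exist_integer_multiples (nonZeroDivisors V) P.support P.coeff
  choose a ha using hb
  let P₀ : MvPolynomial (Fin m) V := ∑ d ∈ P.support.attach, monomial d.1 (a d.1 d.2)
  have hP₀ : MvPolynomial.map (algebraMap V K) P₀ = (b : V) • P := by
    simp only [P₀, map_sum, map_monomial, ha]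
    conv_rhs => rw [P.as_sum, Finset.smul_sum, ← Finset.sum_attach]
    exact Finset.sum_congr rfl fun d _ => (MvPolynomial.smul_monomial ..).symm
  have hφg : ∀ Q : MvPolynomial (Fin m) V, g (MvPolynomial.map (algebraMap V K) Q) = (1 : K) ⊗ₜ[V] φ Q := by
    intro Q
    induction Q using MvPolynomial.induction_on with
    | C v =>
      simp only [g, φ, map_C, aeval_C, Algebra.TensorProduct.algebraMap_apply, Algebra.algebraMap_self, RingHom.id_apply]
      rw [Algebra.algebraMap_eq_smul_one, Algebra.algebraMap_eq_smul_one, TensorProduct.smul_tmul]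
    | add p q hp hq => rw [map_add, map_add, map_add, TensorProduct.tmul_add, hp, hq]
    | mul_X p i hp => simp [hp, g, φ]
  have hincl : Function.Injective (fun x : C => (1 : K) ⊗ₜ[V] x) :=
    Algebra.TensorProduct.includeRight_injective (R := V) (A := K) (B := C) (IsFractionRing.injective V K)
  have hφ₀ : φ P₀ = 0 := hincl (by
    show (1 : K) ⊗ₜ[V] φ P₀ = (1 : K) ⊗ₜ[V] (0 : C)
    rw [← hφg, hP₀, ← algebraMap_smul K (b : V) P, map_smul, hP, smul_zero, TensorProduct.tmul_zero])
  by_contra hP0
  have hP₀0 : P₀ ≠ 0 := fun h0 => hP0 (by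
    rw [h0, map_zero] at hP₀
    ext d
    have := congrArg (MvPolynomial.coeff d) hP₀.symm
    rw [MvPolynomial.coeff_smul, MvPolynomial.coeff_zero, Algebra.smul_def, mul_eq_zero] at this
    rw [MvPolynomial.coeff_zero]
    exact this.resolve_left ((map_ne_zero_iff _ (IsFractionRing.injective V K)).2 (nonZeroDivisors.ne_zero b.2)))
  -- make one coefficient a unit
  obtain ⟨d₀, hd₀, hmin⟩ : ∃ d₀ ∈ P₀.support, ∀ d ∈ P₀.support, P₀.coeff d₀ ∣ P₀.coeff d := by
    suffices ∀ s : Finset (Fin m →₀ ℕ), s.Nonempty → ∃ d₀ ∈ s, ∀ d ∈ s, P₀.coeff d₀ ∣ P₀.coeff d from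
      this _ (MvPolynomial.support_nonempty.2 hP₀0)
    intro s hne
    induction hne using Finset.Nonempty.cons_induction with
    | singleton d => exact ⟨d, Finset.mem_singleton_self d, fun e he => by rw [Finset.mem_singleton.1 he]⟩
    | cons d t hd hne ih =>
      obtain ⟨e, he, H⟩ := ih
      rcases ValuationRing.dvd_total (P₀.coeff d) (P₀.coeff e) with h1 | h1
      · exact ⟨d, Finset.mem_cons_self d t, fun x hx => (Finset.mem_cons.1 hx).elim (fun h2 => h2 ▸ dvd_rfl) fun h2 => h1.trans (H x h2)⟩
      · exact ⟨e, Finset.mem_cons.2 (Or.inr he), fun x hx => (Finset.mem_cons.1 hx).elim (fun h2 => h2 ▸ h1) (H x)⟩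
  have hdvd : MvPolynomial.C (P₀.coeff d₀) ∣ P₀ := (MvPolynomial.C_dvd_iff_dvd_coeff _ _).2 fun d => by
    by_cases hd : d ∈ P₀.support
    · exact hmin d hd
    · rw [MvPolynomial.notMem_support_iff.1 hd]
      exact dvd_zero _
  obtain ⟨P₁, hP₁⟩ := hdvd
  have hu0 : P₀.coeff d₀ ≠ 0 := MvPolynomial.mem_support_iff.1 hd₀
  have hφ₁ : φ P₁ = 0 := hincl (by
    show (1 : K) ⊗ₜ[V] φ P₁ = (1 : K) ⊗ₜ[V] (0 : C)
    have h1 : (1 : K) ⊗ₜ[V] φ P₀ = algebraMap V K (P₀.coeff d₀) • ((1 : K) ⊗ₜ[V] φ P₁) := by
      rw [algebraMap_smul, ← TensorProduct.tmul_smul, Algebra.smul_def]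
      conv_lhs => rw [hP₁]
      simp [φ]
    rw [hφ₀, TensorProduct.tmul_zero] at h1
    rw [TensorProduct.tmul_zero]
    exact (smul_eq_zero.1 h1.symm).resolve_left ((map_ne_zero_iff _ (IsFractionRing.injective V K)).2 hu0))
  have hcoe : P₁.coeff d₀ = 1 := by
    have h1 := congrArg (MvPolynomial.coeff d₀) hP₁
    rw [MvPolynomial.coeff_C_mul] at h1
    exact (mul_eq_left₀ hu0).1 h1.symm
  have hbar : f (MvPolynomial.map (algebraMap V κ) P₁) = 0 := by
    have key : ∀ Q : MvPolynomial (Fin m) V, f (MvPolynomial.map (algebraMap V κ) Q) = (1 : κ) ⊗ₜ[V] φ Q := by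
      intro Q
      induction Q using MvPolynomial.induction_on with
      | C v =>
        simp only [φ, map_C, aeval_C]
        rw [← MvPolynomial.algebraMap_eq, f.commutes]
        simp only [Algebra.TensorProduct.algebraMap_apply, Algebra.algebraMap_self, RingHom.id_apply]
        rw [Algebra.algebraMap_eq_smul_one, Algebra.algebraMap_eq_smul_one, TensorProduct.smul_tmul]
      | add p q hp hq => rw [map_add, map_add, map_add, TensorProduct.tmul_add, hp, hq]
      | mul_X p i hp =>
        rw [map_mul, map_mul, MvPolynomial.map_X, hp, ← hc i]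
        simp [φ]
    rw [key, hφ₁, TensorProduct.tmul_zero]
  have h2 := congrArg (MvPolynomial.coeff d₀) ((map_eq_zero_iff f hf).1 hbar)
  rw [MvPolynomial.coeff_map, hcoe, map_one, MvPolynomial.coeff_zero] at h2
  exact one_ne_zero h2

theorem ringKrullDim_tensor_tower {A B : Type u} [CommRing A] [CommRing B] [Algebra A B] [Algebra.FiniteType A B]
    (κ L : Type u) [Field κ] [Field L] [Algebra A κ] [Algebra A L] [Algebra κ L] [IsScalarTower A κ L] :
    ringKrullDim (L ⊗[A] B) = ringKrullDim (κ ⊗[A] B) := by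
  rw [← ringKrullDim_eq_of_ringEquiv (Algebra.TensorProduct.cancelBaseChange A κ L L B).toRingEquiv,
    ringKrullDim_eq_of_ringEquiv (Algebra.TensorProduct.comm κ L (κ ⊗[A] B)).toRingEquiv]
  exact S9777.ringKrullDim_tensor_field

theorem ringKrullDim_fibre_le_of_valuation {A B : Type u} [CommRing A] [CommRing B] [Algebra A B] [Module.Flat A B]
    [Algebra.FiniteType A B] {V : Type u} [CommRing V] [IsDomain V] [ValuationRing V] [Algebra A V]
    (K : Type u) [Field K] [Algebra V K] [IsFractionRing V K] [Algebra A K] [IsScalarTower A V K]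
    (κ : Type u) [Field κ] [Algebra V κ] (hκ : Function.Surjective (algebraMap V κ)) [Algebra A κ] [IsScalarTower A V κ]
    (k : Type u) [Field k] [Algebra A k] [Algebra k κ] [IsScalarTower A k κ] :
    ringKrullDim (k ⊗[A] B) ≤ ringKrullDim (K ⊗[A] B) := by
  rw [← ringKrullDim_tensor_tower k κ,
    ← ringKrullDim_eq_of_ringEquiv (Algebra.TensorProduct.cancelBaseChange A V κ κ B).toRingEquiv,
    ← ringKrullDim_eq_of_ringEquiv (Algebra.TensorProduct.cancelBaseChange A V K K B).toRingEquiv]
  exact ringKrullDim_special_le K κ hκ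

/-- The dimension of the fibres of a flat algebra does not drop under generization. -/
theorem ringKrullDim_fibre_le {A B : Type u} [CommRing A] [CommRing B] [Algebra A B] [Module.Flat A B]
    [Algebra.FiniteType A B] (p' p : Ideal A) [p'.IsPrime] [p.IsPrime] (h : p' ≤ p) :
    ringKrullDim (p.ResidueField ⊗[A] B) ≤ ringKrullDim (p'.ResidueField ⊗[A] B) := by
  let f : Localization.AtPrime p →+* p'.ResidueField := IsLocalization.lift (M := p.primeCompl)
    (g := algebraMap A p'.ResidueField) fun a => Ne.isUnit fun h0 => a.2 (h (Ideal.algebraMap_residueField_eq_zero.1 h0))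
  obtain ⟨V, hV, hloc⟩ := IsLocalRing.exists_factor_valuationRing f
  let g : Localization.AtPrime p →+* V.toSubring := f.codRestrict V.toSubring hV
  haveI : IsLocalHom g := hloc
  letI : Algebra A V := (g.comp (algebraMap A (Localization.AtPrime p))).toAlgebra
  haveI : IsScalarTower A V p'.ResidueField := .of_algebraMap_eq fun a => by
    show algebraMap A p'.ResidueField a = f (algebraMap A _ a)
    exact (IsLocalization.lift_eq _ a).symm
  let κ := IsLocalRing.ResidueField V
  let ψ : p.ResidueField →+* κ := IsLocalRing.ResidueField.map g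
  letI : Algebra A κ := ((IsLocalRing.residue V).comp (algebraMap A V)).toAlgebra
  haveI : IsScalarTower A V κ := .of_algebraMap_eq fun _ => rfl
  letI : Algebra p.ResidueField κ := ψ.toAlgebra
  haveI : IsScalarTower A p.ResidueField κ := .of_algebraMap_eq fun a => rfl
  exact ringKrullDim_fibre_le_of_valuation (B := B) (p'.ResidueField) κ IsLocalRing.residue_surjective p.ResidueField

end Groth.Agent.FlatDim
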