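import Mathlib
import Groth.Prelude.Def_Flat
import Groth.Agent.FlatDim.Ring
import Groth.Agent.NearGen.ConstrScheme
import Groth.Agent.FibreDimEt.Top

/-!
# The fibre dimension of a flat morphism
-/

set_option autoImplicit false
set_option linter.style.haveILetI false

universe u

open CategoryTheory CategoryTheory.Limits AlgebraicGeometry TensorProduct Topology

namespace Groth.Agent.FlatDim

variable {X Y : Scheme.{u}} (f : X ⟶ Y)

/-- Affine opens containing a generization. -/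
theorem exists_le_of_specializes {U : Y.Opens} (hU : IsAffineOpen U) {s' s : Y} (h : s' ⤳ s) (hs : s ∈ U) :
    ∃ p' p : PrimeSpectrum Γ(Y, U), hU.fromSpec p' = s' ∧ hU.fromSpec p = s ∧ p'.asIdeal ≤ p.asIdeal := by
  obtain ⟨p, rfl⟩ := hU.range_fromSpec.ge hs
  obtain ⟨p', rfl⟩ := hU.range_fromSpec.ge (h.mem_open U.2 hs)
  exact ⟨p', p, rfl, rfl, (PrimeSpectrum.le_iff_specializes p' p).2
    (hU.fromSpec.isOpenEmbedding.toIsInducing.specializes_iff.1 h)⟩

/-- Fibre dimensions on an affine chart increase along generizations. -/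
theorem topologicalKrullDim_chart_le [Flat f] [LocallyOfFiniteType f] {U : Y.Opens} (hU : IsAffineOpen U) {W : X.Opens}
    (hW : IsAffineOpen W) (e : W ≤ f ⁻¹ᵁ U) {s' s : Y} (h : s' ⤳ s) (hs : s ∈ U) :
    topologicalKrullDim ((W : Set X) ∩ f ⁻¹' {s} : Set X) ≤ topologicalKrullDim ((W : Set X) ∩ f ⁻¹' {s'} : Set X) := by
  obtain ⟨p', p, rfl, rfl, hle⟩ := exists_le_of_specializes hU h hs
  rw [NearGen.topologicalKrullDim_fibre_chart f hU hW e, NearGen.topologicalKrullDim_fibre_chart f hU hW e]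
  letI := (f.appLE U W e).hom.toAlgebra
  haveI : Module.Flat Γ(Y, U) Γ(X, W) := f.flat_appLE hU hW e
  haveI : Algebra.FiniteType Γ(Y, U) Γ(X, W) := HasRingHomProperty.appLE (P := @LocallyOfFiniteType) f inferInstance ⟨U, hU⟩ ⟨W, hW⟩ e
  exact ringKrullDim_fibre_le _ _ hle

/-- The dimension of a fibre through affine opens. -/
theorem topologicalKrullDim_fiber_eq_iSup {U : Y.Opens} (hU : IsAffineOpen U) (y : Y) (hy : y ∈ U) :
    topologicalKrullDim (f.fiber y) =
      ⨆ W : {W : X.Opens // IsAffineOpen W ∧ W ≤ f ⁻¹ᵁ U}, topologicalKrullDim ((W.1 : Set X) ∩ f ⁻¹' {y} : Set X) := by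
  rw [(f.fiberHomeo _).isHomeomorph.topologicalKrullDim_eq,
    NearGen.topologicalKrullDim_eq_iSup_of_cover
      (fun W : {W : X.Opens // IsAffineOpen W ∧ W ≤ f ⁻¹ᵁ U} => Subtype.val ⁻¹' (W.1 : Set X))
      (fun W => W.1.2.preimage continuous_subtype_val) (fun x => by
        obtain ⟨W, hW, hxW, hWU⟩ := exists_isAffineOpen_mem_and_subset (X := X) (x := x.1) (U := f ⁻¹ᵁ U)
          (show f x.1 ∈ U by rw [show f x.1 = y from x.2]; exact hy)
        exact ⟨⟨W, hW, hWU⟩, hxW⟩)]
  refine iSup_congr fun W => ?_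
  have hr' : Set.range (fun x : (Subtype.val ⁻¹' (W.1 : Set X) : Set ↥(f ⁻¹' {y})) => x.1.1) =
      (W.1 : Set X) ∩ f ⁻¹' {y} :=
    Set.ext fun x => ⟨by rintro ⟨z, rfl⟩; exact ⟨z.2, z.1.2⟩, fun hx => ⟨⟨⟨x, hx.2⟩, hx.1⟩, rfl⟩⟩
  rw [← hr']
  exact ((Topology.IsEmbedding.subtypeVal.comp Topology.IsEmbedding.subtypeVal).toHomeomorph).isHomeomorph.topologicalKrullDim_eq

/-- The fibre dimension increases along generizations. -/
theorem topologicalKrullDim_fiber_le [Flat f] [LocallyOfFiniteType f] {s' s : Y} (h : s' ⤳ s) :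
    topologicalKrullDim (f.fiber s) ≤ topologicalKrullDim (f.fiber s') := by
  obtain ⟨U, hU, hs, -⟩ := exists_isAffineOpen_mem_and_subset (X := Y) (x := s) (U := ⊤) trivial
  rw [topologicalKrullDim_fiber_eq_iSup f hU s hs, topologicalKrullDim_fiber_eq_iSup f hU s' (h.mem_open U.2 hs)]
  exact iSup_mono fun W => topologicalKrullDim_chart_le f hU W.2.1 W.2.2 h hs

theorem dim_le_of_comp {A B Z : Type u} [TopologicalSpace A] [TopologicalSpace B] [TopologicalSpace Z] (g : A → B)
    (hg : Continuous g) (j : B → Z) (i : A → Z) (hj : Continuous j) (hi : IsInducing i) (h : ∀ a, j (g a) = i a) :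
    topologicalKrullDim A ≤ topologicalKrullDim B :=
  IsInducing.topologicalKrullDim_le (IsInducing.of_comp hg hj (by rwa [show j ∘ g = i from funext h]))

theorem isOpen_of_affine (E : Set Y) (h : ∀ (U : Y.Opens) (hU : IsAffineOpen U), IsOpen (hU.fromSpec ⁻¹' E)) :
    IsOpen E := by
  refine isOpen_iff_forall_mem_open.2 fun y hy => ?_
  obtain ⟨U, hU, hyU, -⟩ := exists_isAffineOpen_mem_and_subset (X := Y) (x := y) (U := ⊤) trivial
  refine ⟨hU.fromSpec '' (hU.fromSpec ⁻¹' E), Set.image_preimage_subset _ _,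
    hU.fromSpec.isOpenEmbedding.isOpenMap _ (h U hU), ?_⟩
  obtain ⟨q, rfl⟩ := hU.range_fromSpec.ge hyU
  exact ⟨q, hy, rfl⟩

/-- The locus where a chart of the fibre has dimension exceeding a bound is open. -/
theorem isOpen_chart [Flat f] [LocallyOfFinitePresentation f] {U : Y.Opens} (hU : IsAffineOpen U) {W : X.Opens}
    (hW : IsAffineOpen W) (e : W ≤ f ⁻¹ᵁ U) (c : WithBot ℕ∞) :
    IsOpen {p : PrimeSpectrum Γ(Y, U) | c < topologicalKrullDim ((W : Set X) ∩ f ⁻¹' {hU.fromSpec p} : Set X)} := by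
  refine PrimeSpectrum.isOpen_of_stableUnderGeneralization_of_isConstructible (fun p p' hp hps => ?_) ?_
  · exact lt_of_lt_of_le hps (topologicalKrullDim_chart_le f hU hW e (hp.map hU.fromSpec.continuous)
      (hU.range_fromSpec.le ⟨_, rfl⟩))
  · simp only [NearGen.topologicalKrullDim_fibre_chart f hU hW e]
    letI := (f.appLE U W e).hom.toAlgebra
    haveI : Algebra.FinitePresentation Γ(Y, U) Γ(X, W) := f.finitePresentation_appLE hU hW e
    exact NearGen.isConstructible_ringKrullDim (fun d => c < d)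

/-- The fibre dimension of a flat morphism is lower semicontinuous. -/
theorem isOpen_lt_fibreDim [Flat f] [LocallyOfFinitePresentation f] (c : WithBot ℕ∞) :
    IsOpen {s : Y | c < topologicalKrullDim (f.fiber s)} := by
  refine isOpen_of_affine _ fun U hU => ?_
  have heq : hU.fromSpec ⁻¹' {s : Y | c < topologicalKrullDim (f.fiber s)} =
      ⋃ W : {W : X.Opens // IsAffineOpen W ∧ W ≤ f ⁻¹ᵁ U},
        {p : PrimeSpectrum Γ(Y, U) | c < topologicalKrullDim ((W.1 : Set X) ∩ f ⁻¹' {hU.fromSpec p} : Set X)} := by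
    refine Set.ext fun (p : PrimeSpectrum Γ(Y, U)) => ?_
    show c < topologicalKrullDim (f.fiber (hU.fromSpec p)) ↔ _
    rw [topologicalKrullDim_fiber_eq_iSup f hU _ (hU.range_fromSpec.le ⟨_, rfl⟩)]
    exact lt_iSup_iff.trans (Set.mem_iUnion (s := fun W : {W : X.Opens // IsAffineOpen W ∧ W ≤ f ⁻¹ᵁ U} =>
      {p : PrimeSpectrum Γ(Y, U) | c < topologicalKrullDim ((W.1 : Set X) ∩ f ⁻¹' {hU.fromSpec p} : Set X)})).symm
  rw [heq]
  exact isOpen_iUnion fun W => isOpen_chart f hU W.2.1 W.2.2 c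

/-- A flat proper morphism which is finite over a dense open is finite. -/
theorem isFinite_of_dense [Flat f] [IsProper f] [LocallyOfFinitePresentation f] (U : Y.Opens)
    (hU : Dense (U : Set Y)) [IsFinite (f ∣_ U)] : IsFinite f := by
  have hle : ∀ y ∈ U, topologicalKrullDim (f.fiber y) ≤ 0 := fun y hy => by
    rw [(f.fiberHomeo y).isHomeomorph.topologicalKrullDim_eq]
    have hd : DiscreteTopology ↥((f ∣_ U) ⁻¹' {⟨y, hy⟩}) := ((f ∣_ U).isDiscrete_preimage_singleton ⟨y, hy⟩).to_subtype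
    have hval : ∀ z : ↥(f ⁻¹ᵁ U), f ((f ⁻¹ᵁ U).ι z) = U.ι ((f ∣_ U) z) := fun z => (congrArg (fun k => k z) (morphismRestrict_ι f U)).symm
    let g : ↥((f ∣_ U) ⁻¹' {⟨y, hy⟩}) → ↥(f ⁻¹' {y}) := fun z => ⟨(f ⁻¹ᵁ U).ι z.1, (hval z.1).trans (congrArg U.ι z.2)⟩
    have hg : Function.Surjective g := fun x =>
      ⟨⟨⟨x.1, (show f x.1 ∈ U from (show f x.1 = y from x.2).symm ▸ hy)⟩, Subtype.ext ((hval _).symm.trans x.2)⟩, rfl⟩
    have hge : IsEmbedding g := IsEmbedding.of_comp (by fun_prop) continuous_subtype_val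
      ((f ⁻¹ᵁ U).ι.isOpenEmbedding.isEmbedding.comp IsEmbedding.subtypeVal)
    haveI : DiscreteTopology ↥(f ⁻¹' {y}) :=
      (hge.toHomeomorphOfSurjective hg).symm.isEmbedding.discreteTopology
    exact (topologicalKrullDim_zero_of_discreteTopology _)
  have hfin : ∀ y, topologicalKrullDim (f.fiber y) ≤ 0 := fun y => by
    by_contra h
    obtain ⟨z, hz, hzU⟩ := hU.inter_open_nonempty _ (isOpen_lt_fibreDim f 0) ⟨y, not_le.1 h⟩
    exact (not_le.2 hz) (hle z hzU)
  haveI : LocallyQuasiFinite f := LocallyQuasiFinite.of_finite_preimage_singleton f fun y => by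
    haveI : LocallyOfFiniteType (f.fiberToSpecResidueField y) := MorphismProperty.pullback_snd _ _ inferInstance
    haveI : IsLocallyNoetherian (f.fiber y) := LocallyOfFiniteType.isLocallyNoetherian (f.fiberToSpecResidueField y)
    haveI : IsLocallyArtinian (f.fiber y) := IsLocallyArtinian.of_topologicalKrullDim_le_zero (hfin y)
    haveI : IsArtinianScheme (f.fiber y) := {}
    haveI : Finite (f.fiber y) := inferInstance
    exact Finite.of_equiv _ (f.fiberHomeo y).toEquiv
  exact IsFinite.of_isProper_of_locallyQuasiFinite f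

/-- A bound on the local dimensions bounds the dimension. -/
theorem topologicalKrullDim_le_of_localDim_le {T : Type u} [TopologicalSpace T] (e : WithBot ℕ∞)
    (h : ∀ x : T, FlatMor.localDim T x ≤ e) : topologicalKrullDim T ≤ e := by
  rw [DimFormulaLib.topologicalKrullDim_eq_iSup_localDim]
  exact iSup_le h

/-- A bound on the local fibre dimensions over a dense open holds everywhere. -/
theorem fibreDimAt_le_of_dense [Flat f] [LocallyOfFiniteType f] (U : Y.Opens) (hU : Dense (U : Set Y)) (e : WithBot ℕ∞)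
    (hle : ∀ x : X, f x ∈ U → FlatMor.fibreDimAt f x ≤ e)
    (h : LocallyOfFinitePresentation f ∨ IsRetrocompact (U : Set Y)) (x : X) : FlatMor.fibreDimAt f x ≤ e := by
  obtain ⟨U₀, hU₀, hxU₀, -⟩ := exists_isAffineOpen_mem_and_subset (X := Y) (x := f x) (U := ⊤) trivial
  obtain ⟨W, hW, hxW, hWU⟩ := exists_isAffineOpen_mem_and_subset (X := X) (x := x) (U := f ⁻¹ᵁ U₀) hxU₀
  -- the chart over points of the dense open
  have hU' : ∀ y ∈ U, topologicalKrullDim ((W : Set X) ∩ f ⁻¹' {y} : Set X) ≤ e := fun y hy => by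
    refine topologicalKrullDim_le_of_localDim_le e fun z => ?_
    refine le_trans ?_ (hle z.1 (show f z.1 ∈ U from (show f z.1 = y from z.2.2).symm ▸ hy))
    rw [FibreDimEt.fibreDimAt_eq_localDim f z.1 z.2.2]
    refine le_iInf fun O => iInf_le_of_le ⟨⟨(fun w : ↥((W : Set X) ∩ f ⁻¹' {y}) => (⟨w.1, w.2.2⟩ : ↥(f ⁻¹' {y}))) ⁻¹' O.1,
      O.1.2.preimage (by fun_prop)⟩, O.2⟩ ?_
    exact dim_le_of_comp (fun w => (⟨⟨w.1.1, w.1.2.2⟩, w.2⟩ : ↥(O.1 : Set ↥(f ⁻¹' {y})))) (by fun_prop)
      (fun w => w.1.1) (fun w => w.1.1) (continuous_subtype_val.comp continuous_subtype_val)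
      (IsInducing.subtypeVal.comp IsInducing.subtypeVal) (fun _ => rfl)
  have hbound : topologicalKrullDim ((W : Set X) ∩ f ⁻¹' {f x} : Set X) ≤ e := by
    obtain ⟨p, hp⟩ := hU₀.range_fromSpec.ge hxU₀
    rcases h with h | h
    · haveI := h
      by_contra hc
      obtain ⟨q, hq, hqU⟩ := hU.inter_open_nonempty _ (hU₀.fromSpec.isOpenEmbedding.isOpenMap _
        (isOpen_chart f hU₀ hW hWU e)) ⟨f x, p, (by show e < _; rw [hp]; exact not_le.1 hc), hp⟩
      obtain ⟨q', hq', rfl⟩ := hq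
      exact not_le.2 hq' (hU' _ hqU)
    · have hc : IsCompact (hU₀.fromSpec ⁻¹' (U : Set Y)) := by
        have h1 := h hU₀.isCompact U₀.2
        rw [hU₀.fromSpec.isOpenEmbedding.isInducing.isCompact_iff, Set.image_preimage_eq_inter_range, hU₀.range_fromSpec]
        exact h1
      obtain ⟨S, hS⟩ := PrimeSpectrum.isCompact_isOpen_iff.1 ⟨hc, U.2.preimage hU₀.fromSpec.continuous⟩
      obtain ⟨p', hp', hle'⟩ : ∃ p' : PrimeSpectrum Γ(Y, U₀), hU₀.fromSpec p' ∈ U ∧ p' ⤳ p := by
        by_contra hno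
        push Not at hno
        have hall : ∀ g ∈ S, ∃ a : Γ(Y, U₀), a ∉ p.asIdeal ∧ ∀ q : PrimeSpectrum Γ(Y, U₀), a ∉ q.asIdeal → g ∈ q.asIdeal := by
          intro g hg
          by_cases hnil : IsNilpotent (algebraMap Γ(Y, U₀) (Localization.AtPrime p.asIdeal) g)
          · obtain ⟨n, hn⟩ := hnil
            rw [← map_pow, IsLocalization.map_eq_zero_iff p.asIdeal.primeCompl] at hn
            obtain ⟨⟨a, ha⟩, hag⟩ := hn
            exact ⟨a, ha, fun q hq => q.isPrime.mem_of_pow_mem n ((q.isPrime.mem_or_mem (hag.symm ▸ q.asIdeal.zero_mem)).resolve_left hq)⟩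
          · obtain ⟨Q, hQ, hgQ⟩ : ∃ Q : Ideal (Localization.AtPrime p.asIdeal), Q.IsPrime ∧
                algebraMap Γ(Y, U₀) (Localization.AtPrime p.asIdeal) g ∉ Q := by
              by_contra hh
              push Not at hh
              exact hnil (mem_nilradical.1 (nilradical_eq_sInf (Localization.AtPrime p.asIdeal) ▸ Ideal.mem_sInf.2 fun {Q} hQ => hh Q hQ))
            refine absurd ?_ (hno ⟨Q.comap (algebraMap Γ(Y, U₀) (Localization.AtPrime p.asIdeal)), hQ.comap _⟩ ?_)
            · refine (PrimeSpectrum.le_iff_specializes _ p).1 ?_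
              exact (Ideal.comap_mono (IsLocalRing.le_maximalIdeal hQ.ne_top)).trans
                (le_of_eq (IsLocalization.AtPrime.comap_maximalIdeal _ p.asIdeal))
            · show _ ∈ hU₀.fromSpec ⁻¹' (U : Set Y)
              refine (Set.ext_iff.1 hS _).1 ?_
              intro hsub
              exact hgQ (hsub hg)
        choose! a ha hag using hall
        obtain ⟨q, hqo, hqU⟩ := hU.inter_open_nonempty _ (hU₀.fromSpec.isOpenEmbedding.isOpenMap _
          (PrimeSpectrum.basicOpen (∏ g ∈ S, a g)).2) ⟨f x, p, fun hh => by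
            obtain ⟨g, hg, hga⟩ := p.isPrime.prod_mem_iff.1 hh
            exact ha g hg hga, hp⟩
        obtain ⟨q', hq', rfl⟩ := hqo
        have h2 : q' ∈ hU₀.fromSpec ⁻¹' (U : Set Y) := hqU
        replace h2 := (Set.ext_iff.1 hS q').2 h2
        exact h2 fun g hg => hag g hg q' fun hh => hq' (Ideal.prod_mem _ hg hh)
      refine le_trans ?_ (hU' _ hp')
      exact topologicalKrullDim_chart_le f hU₀ hW hWU (hp ▸ hle'.map hU₀.fromSpec.continuous) hxU₀
  rw [FibreDimEt.fibreDimAt_eq_localDim f x rfl]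
  refine iInf_le_of_le ⟨⟨Subtype.val ⁻¹' (W : Set X), W.2.preimage continuous_subtype_val⟩, hxW⟩ (le_trans ?_ hbound)
  exact dim_le_of_comp (fun w => (⟨w.1.1, w.2, w.1.2⟩ : ↥((W : Set X) ∩ f ⁻¹' {f x}))) (by fun_prop)
    (fun w => w.1) (fun w => w.1.1) continuous_subtype_val (IsInducing.subtypeVal.comp IsInducing.subtypeVal) (fun _ => rfl)

end Groth.Agent.FlatDim
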