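import Mathlib
import Groth.Agent.FlatDim.Trdeg
import Groth.Agent.CMFlatLib.Affine

/-!
# Relative dimension at generic points of fibres after base change

A generic point of a fibre is Cohen–Macaulay, so a neighbourhood is flat and quasi-finite over affine
space; this property survives base change.
-/

set_option autoImplicit false
set_option linter.style.haveILetI false

universe u

open CategoryTheory CategoryTheory.Limits AlgebraicGeometry Groth.Agent.DimFormulaLib

namespace Groth.Agent.FlatDim

variable {X Y X' Y' : Scheme.{u}}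

/-- A flat morphism is Cohen–Macaulay at the generic points of the fibres. -/
theorem isCMAt_of_maximal (f : X ⟶ Y) [Flat f] [LocallyOfFiniteType f] (x : X)
    (h : ∀ w : X, f w = f x → w ⤳ x → x ⤳ w) : MoreMor.IsCMAt f x := by
  let z := f.asFiber x
  haveI : LocallyOfFiniteType (f.fiberToSpecResidueField (f x)) := MorphismProperty.pullback_snd _ _ inferInstance
  haveI : IsLocallyNoetherian (f.fiber (f x)) := LocallyOfFiniteType.isLocallyNoetherian (f.fiberToSpecResidueField (f x))
  have h0 : ringKrullDim ((f.fiber (f x)).presheaf.stalk z) ≤ 0 := by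
    rw [ringKrullDim_stalk_eq_coheight, Order.coheight_eq_zero.2 (show IsMax z from fun w hw => by
      have h1 : f.fiberι _ w ⤳ x := ((Scheme.le_iff_specializes.1 hw).map (f.fiberι _).continuous).trans (specializes_of_eq (f.fiberι_asFiber x))
      have h2 := h _ (f.fiberHomeo _ w).2 h1
      exact Scheme.le_iff_specializes.2 ((f.fiberι _).isEmbedding.isInducing.specializes_iff.1
        (by rw [f.fiberι_asFiber x]; exact h2)))]
    rfl
  refine (CMFlatLib.isCMAt_iff f x).2 ⟨Flat.stalkMap f _, ?_⟩
  have key : ∀ x' : X, x' = x → (CMFlatLib.CMFibre (f.stalkMap x').hom ↔ CMFlatLib.CMFibre (f.stalkMap x).hom) := by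
    rintro x' rfl; rfl
  exact (key _ (f.fiberι_asFiber x)).1 ((CMFlatLib.cm_fibre_stalk_iff f (f x) z).1 (CMFlatLib.cm_of_dim_zero h0))

variable {f : X ⟶ Y} {f' : X' ⟶ Y'} {g' : X' ⟶ X} {g : Y' ⟶ Y}

/-- The relative dimension at a Cohen–Macaulay point survives base change. -/
theorem fibreDimAt_baseChange (hc : IsPullback g' f' f g) [LocallyOfFinitePresentation f] (w : X') (n : ℕ)
    (h : MoreMor.IsCMAt f (g' w)) (hn : FlatMor.fibreDimAt f (g' w) = n) :
    FlatMor.fibreDimAt f' w = n := by
  haveI : LocallyOfFinitePresentation f' := MorphismProperty.of_isPullback hc inferInstance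
  obtain ⟨U, a, hxU, ha, hflat, hqf⟩ := CMFlatLib.exists_flat_quasiFinite f (g' w) n h hn
  let U' := g' ⁻¹ᵁ U
  have hsq : IsPullback (g' ∣_ U) (U'.ι ≫ f') (U.ι ≫ f) g := (isPullback_morphismRestrict g' U).paste_vert hc
  let P := AffineSpace.isPullback_map (n := ULift.{u} (Fin n)) g
  let b : (U' : Scheme.{u}) ⟶ 𝔸(ULift.{u} (Fin n); Y') :=
    P.lift ((g' ∣_ U) ≫ a) (U'.ι ≫ f') (by rw [Category.assoc, ha]; exact hsq.w)
  have hb : b ≫ (𝔸(ULift.{u} (Fin n); Y') ↘ Y') = U'.ι ≫ f' := P.lift_snd _ _ _
  have htop : IsPullback (g' ∣_ U) b a (AffineSpace.map (ULift.{u} (Fin n)) g) :=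
    IsPullback.of_bot (by rw [hb, ha]; exact hsq) (P.lift_fst _ _ _).symm P
  haveI : Flat b := MorphismProperty.of_isPullback htop hflat
  haveI : LocallyQuasiFinite b := MorphismProperty.of_isPullback htop hqf
  exact (CMFlatLib.isCMAt_of_flat_quasiFinite n f' b hb ⟨w, hxU⟩ (Flat.stalkMap b _)).2

/-- Generic points of the fibres of a base change lie over generic points of the fibres. -/
theorem maximal_of_baseChange (hc : IsPullback g' f' f g) (w : X')
    (h : ∀ u : X', f' u = f' w → u ⤳ w → w ⤳ u) :
    ∀ u : X, f u = f (g' w) → u ⤳ g' w → g' w ⤳ u := fun u hu huw => by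
  let v := f' w
  let r := Spec.map (g.residueFieldMap v)
  have hr : Y'.fromSpecResidueField v ≫ g = r ≫ Y.fromSpecResidueField (g v) :=
    (g.SpecMap_residueFieldMap_fromSpecResidueField v).symm
  let π : f'.fiber v ⟶ f.fiber (g v) := pullback.lift (f'.fiberι v ≫ g') (f'.fiberToSpecResidueField v ≫ r)
    (by rw [Category.assoc, hc.w, f'.fiber_fac_assoc, hr, Category.assoc])
  have hπ : IsPullback π (f'.fiberToSpecResidueField v) (f.fiberToSpecResidueField (g v)) r := by
    refine IsPullback.of_right (h₁₂ := f.fiberι (g v)) (h₂₂ := Y.fromSpecResidueField (g v)) ?_ (pullback.lift_snd _ _ _) (IsPullback.of_hasPullback f _)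
    rw [show π ≫ f.fiberι (g v) = f'.fiberι v ≫ g' from pullback.lift_fst _ _ _, ← hr]
    exact (IsPullback.of_hasPullback f' _).paste_horiz hc
  haveI : Flat r := HasRingHomProperty.Spec_iff.2 (by
    letI := (g.residueFieldMap v).hom.toAlgebra
    exact RingHom.flat_algebraMap_iff.2 (inferInstance : Module.Flat (Y.residueField (g v)) (Y'.residueField v)))
  haveI : Flat π := MorphismProperty.of_isPullback hπ.flip inferInstance
  let z := f'.asFiber w
  have hgv : g v = f (g' w) := (congrArg (fun k => k w) hc.w).symm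
  obtain ⟨u', hu'⟩ : ∃ u' : f.fiber (g v), f.fiberι _ u' = u :=
    ⟨(f.fiberHomeo _).symm ⟨u, hu.trans hgv.symm⟩, congrArg Subtype.val ((f.fiberHomeo _).apply_symm_apply ⟨u, hu.trans hgv.symm⟩)⟩
  subst hu'
  have hzw : f.fiberι (g v) (π z) = g' w := by
    rw [← Scheme.Hom.comp_apply, show π ≫ f.fiberι (g v) = f'.fiberι v ≫ g' from pullback.lift_fst _ _ _,
      Scheme.Hom.comp_apply]
    exact congrArg g' (f'.fiberι_asFiber w)
  rw [← hzw] at huw ⊢
  obtain ⟨z', hz', rfl⟩ := Flat.generalizingMap π ((f.fiberι _).isEmbedding.isInducing.specializes_iff.1 huw)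
  have h1 := h (f'.fiberι v z') (f'.fiberHomeo v z').2 ((hz'.map (f'.fiberι v).continuous).trans (specializes_of_eq (f'.fiberι_asFiber w)))
  refine (Specializes.map ?_ π.continuous).map (f.fiberι _).continuous
  exact (f'.fiberι v).isEmbedding.isInducing.specializes_iff.1 ((specializes_of_eq (f'.fiberι_asFiber w)).trans h1)

/-- Components of the preimage of an irreducible closed set under a base change. -/
theorem dim_component_baseChange {k : Type u} [Field k] (qX : X ⟶ Spec (CommRingCat.of k)) (qY : Y ⟶ Spec (CommRingCat.of k))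
    (qY' : Y' ⟶ Spec (CommRingCat.of k)) [LocallyOfFiniteType qX] [LocallyOfFiniteType qY] [LocallyOfFiniteType qY']
    (hf : f ≫ qY = qX) [Flat f] (hc : IsPullback g' f' f g) (n : ℕ)
    (hn : ∀ (y : Y), ∀ C ∈ irreducibleComponents (f.fiber y), topologicalKrullDim ↥C = (n : WithBot ℕ∞))
    (V : Set Y') (hV : IsClosed V) (hVirr : IsIrreducible V)
    (W : Set ↥(f' ⁻¹' V)) (hW : W ∈ irreducibleComponents ↥(f' ⁻¹' V)) :
    topologicalKrullDim ↥W = topologicalKrullDim ↥V + (n : WithBot ℕ∞) := by
  haveI : LocallyOfFiniteType (f ≫ qY) := hf ▸ ‹LocallyOfFiniteType qX›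
  haveI : LocallyOfFiniteType f := locallyOfFiniteType_of_comp f qY
  haveI : IsLocallyNoetherian Y := LocallyOfFiniteType.isLocallyNoetherian qY
  haveI : LocallyOfFinitePresentation f := inferInstance
  haveI : Flat f' := MorphismProperty.of_isPullback hc inferInstance
  haveI : LocallyOfFiniteType f' := MorphismProperty.of_isPullback hc inferInstance
  haveI : QuasiSober ↥(f' ⁻¹' V) := (hV.preimage f'.continuous).isClosedEmbedding_subtypeVal.quasiSober
  obtain ⟨⟨w, hwV⟩, hclw, hwmax⟩ := exists_generic_of_component hW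
  obtain ⟨v, hv⟩ := QuasiSober.sober hVirr hV
  have hmax : ∀ u : X', u ⤳ w → f' u ∈ V → w ⤳ u := fun u hu huV =>
    (hwmax ⟨u, huV⟩ ((subtype_specializes_iff _ _).2 hu)).map continuous_subtype_val
  have hfw : f' w = v := by
    obtain ⟨u, hu, huv⟩ := Flat.generalizingMap f' (hv.specializes hwV)
    have hwu : w ⤳ u := hmax u hu (huv ▸ hv.mem)
    exact ((hwu.map f'.continuous).trans (specializes_of_eq huv)).antisymm (hv.specializes hwV) |>.eq
  have hmax' : ∀ u : X', f' u = f' w → u ⤳ w → w ⤳ u := fun u hu huw => hmax u huw (hu ▸ hwV)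
  obtain ⟨m, hm, hdm⟩ := fibreDimAt_maximal f (x := g' w) (maximal_of_baseChange hc w hmax')
  have hmn : m = n := by
    haveI : LocallyOfFiniteType (Y := Spec (CommRingCat.of (Y.residueField (f (g' w))))) (f.fiberToSpecResidueField (f (g' w))) :=
      MorphismProperty.pullback_snd (P := @LocallyOfFiniteType) _ _ inferInstance
    obtain ⟨a, ha, hca⟩ := topologicalKrullDim_closure (Y.residueField (f (g' w))) (f.fiberToSpecResidueField (f (g' w)))
      (f.asFiber (g' w))
    rw [resTrdegAt_fibre, resTrdegAt_point f (f.fiberι_asFiber (g' w)), hm] at ha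
    have h1 := hca.symm.trans (hn _ _ (closure_mem_components _ fun u hu => by
      refine (f.fiberι _).isEmbedding.isInducing.specializes_iff.1 ?_
      rw [f.fiberι_asFiber]
      exact maximal_of_baseChange hc w hmax' _ (f.fiberHomeo _ u).2
        ((hu.map (f.fiberι _).continuous).trans (specializes_of_eq (f.fiberι_asFiber _)))))
    have h2 : m = a := by exact_mod_cast ha
    have h3 : a = n := by exact_mod_cast h1
    omega
  have hdim := fibreDimAt_baseChange hc w m (isCMAt_of_maximal f _ (maximal_of_baseChange hc w hmax')) hdm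
  obtain ⟨m', hm', hdm'⟩ := fibreDimAt_maximal f' (x := w) hmax'
  rw [hdim] at hdm'
  have hmm : m = m' := by exact_mod_cast hdm'
  haveI : LocallyOfFiniteType (f' ≫ qY') := inferInstance
  obtain ⟨b, hb, hcb⟩ := topologicalKrullDim_closure k qY' (f' w)
  obtain ⟨c, hc', hcc⟩ := topologicalKrullDim_closure k (f' ≫ qY') w
  rw [resTrdegAt_comp, hb, hm'] at hc'
  have hcbm : c = b + m' := by exact_mod_cast hc'.symm
  have hWw : topologicalKrullDim ↥W = topologicalKrullDim ↥(closure ({w} : Set X')) := by
    have himg : Subtype.val '' W = closure ({w} : Set X') := by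
      rw [← hclw]
      refine ((hV.preimage f'.continuous).isClosedEmbedding_subtypeVal.closure_image_eq _).symm.trans ?_
      rw [Set.image_singleton]
    rw [← himg]
    exact (Topology.IsEmbedding.subtypeVal.homeomorphImage W).isHomeomorph.topologicalKrullDim_eq
  have hVv : topologicalKrullDim ↥V = topologicalKrullDim ↥(closure ({f' w} : Set Y')) := by rw [hfw, hv.def]
  rw [hWw, hVv, hcc, hcb, hcbm, ← hmm, hmn]
  push_cast
  rfl

end Groth.Agent.FlatDim
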